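import Mathlib
import Cfsg.Agent.FastGrp
import Cfsg.Agent.Prune
set_option linter.all false

section
prune_inst 0x7f00000000000000000000000000000000000000000000000000000000000000000000000000000000000000000000000000000000000000000000000000000000000000000000000000000000000000003fffffffffffffffffffffffffffbeffbdffffffff

-- part: H78/Pw/Base
section
set_option linter.all false
open scoped Cfsg.Agent.FastGrp

/-!
# S2465 (products of two `m`-th powers): interface (helper78)

* `Pr n g` : `g` is a product of two elements of order prime to `n`.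
* `All n G` : every element of `G` is such a product.
* `Pw G` : `All 6 G` and `All p G` for every prime `p ≥ 5`.  This is the ROW statement.
* `Pw.pow` : the conclusion of S2465.
-/

set_option autoImplicit false

namespace Cfsg.Agent.H78.Pw

universe u v

variable {G : Type u} [Group G] {H : Type v} [Group H]

/-- `g` is a product of two elements of order prime to `n`. -/
def Pr (n : ℕ) (g : G) : Prop :=
  ∃ a b : G, g = a * b ∧ (orderOf a).Coprime n ∧ (orderOf b).Coprime n

/-- every element of `G` is a product of two elements of order prime to `n`. -/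
def All (n : ℕ) (G : Type*) [Group G] : Prop := ∀ g : G, Pr n g

/-- The row statement. -/
def Pw (G : Type*) [Group G] : Prop := All 6 G ∧ ∀ p : ℕ, p.Prime → 5 ≤ p → All p G

theorem Pr.mk {n : ℕ} {g a b : G} (h : g = a * b) (ha : (orderOf a).Coprime n)
    (hb : (orderOf b).Coprime n) : Pr n g := ⟨a, b, h, ha, hb⟩

/-- an element of order prime to `n` -/
theorem Pr.of_coprime {n : ℕ} {g : G} (h : (orderOf g).Coprime n) : Pr n g :=
  ⟨g, 1, (mul_one g).symm, h, by rw [orderOf_one]; exact Nat.coprime_one_left n⟩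

theorem Pr.one (n : ℕ) : Pr n (1 : G) :=
  Pr.of_coprime (by rw [orderOf_one]; exact Nat.coprime_one_left n)

/-- only the prime divisors of `n` matter -/
theorem Pr.anti {n m : ℕ} {g : G} (h : Pr n g) (hmn : ∀ d : ℕ, d.Coprime n → d.Coprime m) :
    Pr m g := by
  obtain ⟨a, b, e, ha, hb⟩ := h
  exact ⟨a, b, e, hmn _ ha, hmn _ hb⟩

theorem Pr.of_dvd {n m : ℕ} {g : G} (h : Pr n g) (hmn : m ∣ n) : Pr m g :=
  h.anti fun _ hd => Nat.Coprime.of_dvd_right hmn hd

theorem Pr.map {n : ℕ} {g : G} (h : Pr n g) (f : G →* H) : Pr n (f g) := by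
  obtain ⟨a, b, e, ha, hb⟩ := h
  refine ⟨f a, f b, by rw [e, map_mul], ?_, ?_⟩
  · exact Nat.Coprime.of_dvd_left (orderOf_map_dvd f a) ha
  · exact Nat.Coprime.of_dvd_left (orderOf_map_dvd f b) hb

theorem Pr.conj {n : ℕ} {g : G} (h : Pr n g) (x : G) : Pr n (x * g * x⁻¹) := by
  simpa using h.map (MulAut.conj x).toMonoidHom

theorem Pr.of_isConj {n : ℕ} {g g' : G} (h : Pr n g) (hc : IsConj g g') : Pr n g' := by
  obtain ⟨x, hx⟩ := isConj_iff.1 hc
  rw [← hx]
  exact h.conj x

theorem Pr.of_conj {n : ℕ} {g x : G} (h : Pr n (x * g * x⁻¹)) : Pr n g := by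
  have := h.conj x⁻¹
  simpa [mul_assoc] using this

theorem Pr.inv {n : ℕ} {g : G} (h : Pr n g) : Pr n g⁻¹ := by
  obtain ⟨a, b, e, ha, hb⟩ := h
  exact ⟨b⁻¹, a⁻¹, by rw [e, mul_inv_rev], by rwa [orderOf_inv], by rwa [orderOf_inv]⟩

/-- in a subgroup -/
theorem Pr.of_sub {n : ℕ} {K : Subgroup G} {g : K} (h : Pr n g) : Pr n (g : G) :=
  h.map K.subtype

theorem Pr.of_mem {n : ℕ} {K : Subgroup G} (h : All n K) {g : G} (hg : g ∈ K) : Pr n g :=
  (h ⟨g, hg⟩).of_sub

theorem All.congr {n : ℕ} (e : G ≃* H) (h : All n G) : All n H := by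
  intro y
  have := (h (e.symm y)).map e.toMonoidHom
  simpa using this

theorem All.of_surjective {n : ℕ} (f : G →* H) (hf : Function.Surjective f) (h : All n G) :
    All n H := by
  intro y
  obtain ⟨x, rfl⟩ := hf y
  exact (h x).map f

/-- the image of a homomorphism -/
theorem All.of_range {n : ℕ} (f : G →* H) (h : All n G) {y : H} (hy : y ∈ f.range) : Pr n y := by
  obtain ⟨x, rfl⟩ := hy
  exact (h x).map f

theorem coprime_orderOf_mul {n : ℕ} {a b : G} (hab : Commute a b) (ha : (orderOf a).Coprime n)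
    (hb : (orderOf b).Coprime n) : (orderOf (a * b)).Coprime n := by
  have h1 : orderOf (a * b) ∣ orderOf a * orderOf b := hab.orderOf_mul_dvd_mul_orderOf
  exact Nat.Coprime.of_dvd_left h1 (Nat.Coprime.mul_left ha hb)

/-- commuting subgroups -/
theorem Pr.mul_of_subgroups {n : ℕ} {X Y : Subgroup G} (hXY : ∀ x ∈ X, ∀ y ∈ Y, Commute x y)
    {x : X} {y : Y} (hx : Pr n x) (hy : Pr n y) : Pr n ((x : G) * (y : G)) := by
  obtain ⟨a, b, e, ha, hb⟩ := hx
  obtain ⟨c, d, e', hc, hd⟩ := hy
  refine ⟨(a : G) * c, (b : G) * d, ?_, ?_, ?_⟩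
  · rw [e, e', Subgroup.coe_mul, Subgroup.coe_mul]
    have h1 : Commute (b : G) (c : G) := hXY _ b.2 _ c.2
    calc (a : G) * b * (c * d) = a * (b * c) * d := by group
      _ = a * (c * b) * d := by rw [h1.eq]
      _ = _ := by group
  · exact coprime_orderOf_mul (hXY _ a.2 _ c.2) (by rwa [Subgroup.orderOf_coe])
      (by rwa [Subgroup.orderOf_coe])
  · exact coprime_orderOf_mul (hXY _ b.2 _ d.2) (by rwa [Subgroup.orderOf_coe])
      (by rwa [Subgroup.orderOf_coe])

theorem All.prod {n : ℕ} (hG : All n G) (hH : All n H) : All n (G × H) := by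
  rintro ⟨g, h⟩
  obtain ⟨a, b, e, ha, hb⟩ := hG g
  obtain ⟨c, d, e', hc, hd⟩ := hH h
  refine ⟨(a, c), (b, d), by rw [e, e', Prod.mk_mul_mk], ?_, ?_⟩
  · rw [Prod.orderOf_mk]
    exact Nat.Coprime.of_dvd_left (Nat.lcm_dvd_mul _ _) (Nat.Coprime.mul_left ha hc)
  · rw [Prod.orderOf_mk]
    exact Nat.Coprime.of_dvd_left (Nat.lcm_dvd_mul _ _) (Nat.Coprime.mul_left hb hd)

/-- **Counting**: more than half of the elements have order prime to `n`. -/
theorem All.of_half [Finite G] {n : ℕ}
    (h : Nat.card G < 2 * Nat.card {a : G // (orderOf a).Coprime n}) : All n G := by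
  classical
  have : Fintype G := Fintype.ofFinite G
  intro g
  let A : Finset G := Finset.univ.filter fun a => (orderOf a).Coprime n
  let B : Finset G := A.image fun a => g * a⁻¹
  have hA : A.card = Nat.card {a : G // (orderOf a).Coprime n} := by
    rw [Nat.card_eq_fintype_card, Fintype.card_subtype]
  have hB : B.card = A.card := Finset.card_image_of_injective _ fun a b hab => by
    simpa using hab
  have hne : ¬ Disjoint A B := by
    intro hd
    have h1 := Finset.card_union_of_disjoint hd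
    have h2 : (A ∪ B).card ≤ Fintype.card G := Finset.card_le_univ _
    rw [Nat.card_eq_fintype_card] at h
    omega
  rw [Finset.not_disjoint_iff] at hne
  obtain ⟨a, ha, hb⟩ := hne
  obtain ⟨b, hb', rfl⟩ := Finset.mem_image.1 hb
  refine ⟨g * b⁻¹, b, by group, (Finset.mem_filter.1 ha).2, (Finset.mem_filter.1 hb').2⟩

/-- elements of order prime to `m` are `m`-th powers -/
theorem exists_pow_eq {m : ℕ} {a : G} (h : (orderOf a).Coprime m) : ∃ c : G, c ^ m = a := by
  obtain ⟨k, hk⟩ := exists_pow_eq_self_of_coprime h.symm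
  exact ⟨a ^ k, by rw [← pow_mul, mul_comm, pow_mul, hk]⟩

theorem Pr.pow {m : ℕ} {g : G} (h : Pr m g) : ∃ a b : G, g = a ^ m * b ^ m := by
  obtain ⟨a, b, e, ha, hb⟩ := h
  obtain ⟨c, rfl⟩ := exists_pow_eq ha
  obtain ⟨d, rfl⟩ := exists_pow_eq hb
  exact ⟨c, d, e⟩

/-- **The conclusion of S2465 from the row statement.** -/
theorem Pw.pow (h : Pw G) {m : ℕ} (hm : IsPrimePow m ∨ ∃ k : ℕ, m = 6 ^ k) (g : G) :
    ∃ a b : G, g = a ^ m * b ^ m := by
  rcases hm with hm | ⟨k, rfl⟩
  · obtain ⟨p, k, hp, hk, rfl⟩ := hm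
    have hp' : p.Prime := hp.nat_prime
    rcases lt_or_ge p 5 with h5 | h5
    · have h6 : p ∣ 6 := by
        have h2 := hp'.two_le
        interval_cases p
        · decide
        · decide
        · exact absurd hp' (by decide)
      exact ((h.1 g).anti fun d hd => (Nat.Coprime.of_dvd_right h6 hd).pow_right k).pow
    · exact ((h.2 p hp' h5 g).anti fun d hd => hd.pow_right k).pow
  · exact ((h.1 g).anti fun d hd => hd.pow_right k).pow

theorem Pw.congr (e : G ≃* H) (h : Pw G) : Pw H :=
  ⟨h.1.congr e, fun p hp h5 => (h.2 p hp h5).congr e⟩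

theorem Pw.of_surjective (f : G →* H) (hf : Function.Surjective f) (h : Pw G) : Pw H :=
  ⟨h.1.of_surjective f hf, fun p hp h5 => (h.2 p hp h5).of_surjective f hf⟩

/-- only the primes dividing the order matter -/
theorem Pw.of [Finite G] (h : All 6 G)
    (h' : ∀ p : ℕ, p.Prime → 5 ≤ p → p ∣ Nat.card G → All p G) : Pw G := by
  refine ⟨h, fun p hp h5 => ?_⟩
  by_cases hd : p ∣ Nat.card G
  · exact h' p hp h5 hd
  · intro g
    apply Pr.of_coprime
    exact (Nat.Coprime.of_dvd_left (orderOf_dvd_natCard g)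
      ((Nat.Prime.coprime_iff_not_dvd hp).2 hd).symm)

/-- every element is a product of two elements of `r`-power order, `r ≥ 5` -/
theorem All.of_two_pgroup {r n : ℕ} (hr : r.Coprime n)
    (h : ∀ g : G, ∃ a b : G, g = a * b ∧ (∃ k, a ^ r ^ k = 1) ∧ ∃ k, b ^ r ^ k = 1) : All n G := by
  intro g
  obtain ⟨a, b, e, ⟨k, hk⟩, l, hl⟩ := h g
  exact ⟨a, b, e, Nat.Coprime.of_dvd_left (orderOf_dvd_of_pow_eq_one hk) (hr.pow_left k),
    Nat.Coprime.of_dvd_left (orderOf_dvd_of_pow_eq_one hl) (hr.pow_left l)⟩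

end Cfsg.Agent.H78.Pw
end

-- part: H643/PwCnt
section
set_option linter.all false
open scoped Cfsg.Agent.FastGrp

/-!
# S2465, piece CNT: `All p G` by counting the `p`-singular elements

* `card_sing_le` : if every element of order `p` is conjugate into one of the subgroups `Q i` (of order `p`), then the number of
  elements of order divisible by `p` is at most `∑ i, |G : N(Q i)| * #{g ∈ C(Q i) | Q i ≤ ⟨g⟩}`.
* `all_of_sum` : `∑ i, 1 / |N(Q i) : C(Q i)| ≤ 1/2` implies `All p G`.
* `all_of_one` : one class of subgroups of order `p`, `N(Q) ≠ C(Q)`.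
* `all_of_cyclic` : `G` simple nonabelian (or only: not `p`-nilpotent), cyclic Sylow `p`-subgroup, any `p`.
* `all_of_not_sq_dvd` : `G` simple nonabelian, `p ^ 2 ∤ |G|`.
-/

set_option autoImplicit false

namespace Cfsg.Agent.H643.PwCnt

open Subgroup Cfsg.Agent.H78.Pw

universe u

variable {G : Type u} [Group G] {p : ℕ}

/-- the generator of the subgroup of order `p` of `⟨g⟩` -/
theorem orderOf_root [Finite G] {g : G} (hg : p ∣ orderOf g) :
    orderOf (g ^ (orderOf g / p)) = p :=
  orderOf_pow_orderOf_div (orderOf_pos g).ne' hg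

theorem zpowers_eq_of_mem [Finite G] {Q : Subgroup G} (hQ : Nat.card Q = p) {y : G}
    (hy : orderOf y = p) (h : y ∈ Q) : zpowers y = Q := by
  apply Subgroup.eq_of_le_of_card_ge (by rwa [zpowers_le])
  rw [hQ, Nat.card_zpowers, hy]

/-- **The counting lemma.** -/
theorem card_sing_le [Finite G] {ι : Type*} [Fintype ι] (hp : p.Prime) (Q : ι → Subgroup G)
    (hQ : ∀ i, Nat.card (Q i) = p)
    (hcov : ∀ y : G, orderOf y = p → ∃ i, ∃ x : G, x * y * x⁻¹ ∈ Q i) :
    Nat.card {g : G // p ∣ orderOf g} ≤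
      ∑ i, (normalizer (Q i : Set G)).index *
        Nat.card {c : G // c ∈ centralizer (Q i : Set G) ∧ Q i ≤ zpowers c} := by
  classical
  have hkey : ∀ g : {g : G // p ∣ orderOf g}, ∃ z : (Σ i, (G ⧸ normalizer (Q i : Set G)) ×
      {c : G // c ∈ centralizer (Q i : Set G) ∧ Q i ≤ zpowers c}),
      (g : G) = z.2.1.out * (z.2.2 : G) * z.2.1.out⁻¹ := by
    rintro ⟨g, hg⟩
    obtain ⟨i, x, hx⟩ := hcov (g ^ (orderOf g / p)) (orderOf_root hg)
    set y : G := g ^ (orderOf g / p) with hy
    have hyo : orderOf y = p := orderOf_root hg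
    have hyo' : orderOf (x * y * x⁻¹) = p := by
      rw [← hyo]
      exact (orderOf_injective (MulAut.conj x).toMonoidHom (MulAut.conj x).injective y)
    have hz : zpowers (x * y * x⁻¹) = Q i := zpowers_eq_of_mem (hQ i) hyo' hx
    let t : G ⧸ normalizer (Q i : Set G) := QuotientGroup.mk x⁻¹
    obtain ⟨n, hn⟩ := QuotientGroup.mk_out_eq_mul (normalizer (Q i : Set G)) x⁻¹
    have hn' : t.out = x⁻¹ * n := hn
    -- the element `y' = n⁻¹ (x y x⁻¹) n` generates `Q i`
    have hc : t.out⁻¹ * y * t.out = (n : G)⁻¹ * (x * y * x⁻¹) * n := by rw [hn']; group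
    have hmem : (n : G)⁻¹ * (x * y * x⁻¹) * n ∈ Q i := by
      have h1 := (mem_normalizer_iff.1 (inv_mem n.2) (x * y * x⁻¹)).1 hx
      simpa using h1
    have hyo2 : orderOf (t.out⁻¹ * y * t.out) = p := by
      have := orderOf_injective (MulAut.conj t.out⁻¹).toMonoidHom (MulAut.conj t.out⁻¹).injective y
      simp only [MulEquiv.toMonoidHom_eq_coe, MonoidHom.coe_coe, MulAut.conj_apply, inv_inv] at this
      rw [this, hyo]
    have hz2 : zpowers (t.out⁻¹ * y * t.out) = Q i :=
      zpowers_eq_of_mem (hQ i) hyo2 (by rw [hc]; exact hmem)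
    refine ⟨⟨i, t, t.out⁻¹ * g * t.out, ?_, ?_⟩, by group⟩
    · rw [mem_centralizer_iff]
      intro h hh
      rw [SetLike.mem_coe, ← hz2, mem_zpowers_iff] at hh
      obtain ⟨k, rfl⟩ := hh
      have hcomm : Commute (t.out⁻¹ * y * t.out) (t.out⁻¹ * g * t.out) := by
        have h1 : Commute y g := by rw [hy]; exact (Commute.refl g).pow_left _
        have := h1.map (MulAut.conj t.out⁻¹).toMonoidHom
        simpa using this
      exact (hcomm.zpow_left k).eq
    · have h2 : t.out⁻¹ * y * t.out = (t.out⁻¹ * g * t.out) ^ (orderOf g / p) := by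
        have h1 := map_pow (MulAut.conj t.out⁻¹).toMonoidHom g (orderOf g / p)
        simpa [hy] using h1
      refine le_of_eq_of_le hz2.symm ?_
      rw [zpowers_le, h2]
      exact pow_mem (mem_zpowers _) _
  choose z hz using hkey
  have hinj : Function.Injective z := by
    intro a b hab
    apply Subtype.ext
    rw [hz a, hz b, hab]
  have hle := Nat.card_le_card_of_injective z hinj
  rw [Nat.card_sigma] at hle
  simpa only [Nat.card_prod, Subgroup.index] using hle

theorem card_sing_le' [Finite G] {ι : Type*} [Fintype ι] (hp : p.Prime) (Q : ι → Subgroup G)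
    (hQ : ∀ i, Nat.card (Q i) = p)
    (hcov : ∀ y : G, orderOf y = p → ∃ i, ∃ x : G, x * y * x⁻¹ ∈ Q i) :
    Nat.card {g : G // p ∣ orderOf g} ≤
      ∑ i, (normalizer (Q i : Set G)).index * (Nat.card (centralizer (Q i : Set G)) - 1) := by
  classical
  refine (card_sing_le hp Q hQ hcov).trans (Finset.sum_le_sum fun i _ => Nat.mul_le_mul_left _ ?_)
  have h1 : Nat.card {c : G // c ∈ centralizer (Q i : Set G) ∧ Q i ≤ zpowers c} <
      Nat.card (centralizer (Q i : Set G)) := by
    have : Fintype G := Fintype.ofFinite G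
    let f : {c : G // c ∈ centralizer (Q i : Set G) ∧ Q i ≤ zpowers c} →
        centralizer (Q i : Set G) := fun c => ⟨c.1, c.2.1⟩
    have hf : Function.Injective f := fun a b h => Subtype.ext (Subtype.mk.inj h)
    rw [Nat.card_eq_fintype_card, Nat.card_eq_fintype_card]
    refine Fintype.card_lt_of_injective_of_notMem f hf (b := 1) ?_
    rintro ⟨⟨c, hc, hc'⟩, hh⟩
    have hc1 : c = 1 := congrArg Subtype.val hh
    rw [hc1, zpowers_one_eq_bot, le_bot_iff] at hc'
    have := hQ i
    rw [hc', Subgroup.card_bot] at this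
    exact hp.one_lt.ne this
  omega

theorem card_coprime_add [Finite G] (hp : p.Prime) :
    Nat.card {g : G // (orderOf g).Coprime p} + Nat.card {g : G // p ∣ orderOf g} = Nat.card G := by
  classical
  have : Fintype G := Fintype.ofFinite G
  have h : ∀ g : G, (orderOf g).Coprime p ↔ ¬ p ∣ orderOf g := fun g => by
    rw [Nat.coprime_comm, Nat.Prime.coprime_iff_not_dvd hp]
  simp only [h]
  rw [Nat.card_eq_fintype_card, Nat.card_eq_fintype_card, Nat.card_eq_fintype_card,
    Fintype.card_subtype, Fintype.card_subtype, add_comm]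
  have := Finset.card_filter_add_card_filter_not (s := (Finset.univ : Finset G)) (fun g => p ∣ orderOf g)
  simpa using this

theorem all_of_card [Finite G] (hp : p.Prime) (h : 2 * Nat.card {g : G // p ∣ orderOf g} < Nat.card G) :
    All p G := by
  apply All.of_half
  have := card_coprime_add (G := G) hp
  omega

theorem index_mul_card_mul_relIndex [Finite G] (Q : Subgroup G) :
    (normalizer (Q : Set G)).index * Nat.card (centralizer (Q : Set G)) *
      (centralizer (Q : Set G)).relIndex (normalizer (Q : Set G)) = Nat.card G := by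
  have h1 := relIndex_mul_relIndex ⊥ (centralizer (Q : Set G)) (normalizer (Q : Set G)) bot_le
    (centralizer_le_normalizer (Q : Set G))
  rw [relIndex_bot_left, relIndex_bot_left] at h1
  have h2 := (normalizer (Q : Set G)).card_mul_index
  rw [← h2, ← h1]
  ring

/-- `∑ 1 / |N(Q i) : C(Q i)| ≤ 1/2` -/
theorem all_of_sum [Finite G] {ι : Type*} [Fintype ι] (hp : p.Prime) (Q : ι → Subgroup G)
    (hQ : ∀ i, Nat.card (Q i) = p)
    (hcov : ∀ y : G, orderOf y = p → ∃ i, ∃ x : G, x * y * x⁻¹ ∈ Q i)
    (h : ∑ i, (1 : ℚ) / (centralizer (Q i : Set G)).relIndex (normalizer (Q i : Set G)) ≤ 1 / 2) :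
    All p G := by
  classical
  apply all_of_card hp
  have hG : (0 : ℚ) < Nat.card G := by exact_mod_cast Nat.card_pos
  rcases isEmpty_or_nonempty ι with hι | hι
  · have := card_sing_le' hp Q hQ hcov
    simp only [Finset.univ_eq_empty, Finset.sum_empty, Nat.le_zero] at this
    rw [this]
    exact Nat.card_pos
  have h1 := card_sing_le' hp Q hQ hcov
  have h2 : ∑ i, (normalizer (Q i : Set G)).index * (Nat.card (centralizer (Q i : Set G)) - 1) <
      ∑ i, (normalizer (Q i : Set G)).index * Nat.card (centralizer (Q i : Set G)) := by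
    apply Finset.sum_lt_sum_of_nonempty Finset.univ_nonempty
    intro i _
    have h3 : 0 < Nat.card (centralizer (Q i : Set G)) := Nat.card_pos
    have h4 : 0 < (normalizer (Q i : Set G)).index := Nat.pos_of_ne_zero index_ne_zero_of_finite
    exact Nat.mul_lt_mul_of_pos_left (by omega) h4
  have h3 : ((∑ i, (normalizer (Q i : Set G)).index * Nat.card (centralizer (Q i : Set G)) : ℕ) : ℚ) =
      Nat.card G * ∑ i, (1 : ℚ) / (centralizer (Q i : Set G)).relIndex (normalizer (Q i : Set G)) := by
    rw [Finset.mul_sum]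
    push_cast
    apply Finset.sum_congr rfl
    intro i _
    have h4 := index_mul_card_mul_relIndex (Q i)
    have h5 : ((centralizer (Q i : Set G)).relIndex (normalizer (Q i : Set G)) : ℚ) ≠ 0 := by
      intro h0
      have h0' : (centralizer (Q i : Set G)).relIndex (normalizer (Q i : Set G)) = 0 := by
        exact_mod_cast h0
      rw [h0', mul_zero] at h4
      exact Nat.card_pos.ne h4
    rw [mul_one_div, eq_div_iff h5]
    exact_mod_cast h4
  have h4 : ((2 * Nat.card {g : G // p ∣ orderOf g} : ℕ) : ℚ) < (Nat.card G : ℕ) := by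
    calc ((2 * Nat.card {g : G // p ∣ orderOf g} : ℕ) : ℚ)
        < ((2 * ∑ i, (normalizer (Q i : Set G)).index * Nat.card (centralizer (Q i : Set G)) : ℕ) : ℚ) := by
          exact_mod_cast Nat.mul_lt_mul_of_pos_left (h1.trans_lt h2) (by norm_num)
      _ = 2 * (Nat.card G * ∑ i, (1 : ℚ) /
            (centralizer (Q i : Set G)).relIndex (normalizer (Q i : Set G))) := by
          rw [← h3]; push_cast; ring
      _ ≤ 2 * (Nat.card G * (1 / 2)) := by gcongr
      _ = (Nat.card G : ℕ) := by ring
  exact_mod_cast h4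

/-- one class of subgroups of order `p` -/
theorem all_of_one [Finite G] (hp : p.Prime) (Q : Subgroup G) (hQ : Nat.card Q = p)
    (hcov : ∀ y : G, orderOf y = p → ∃ x : G, x * y * x⁻¹ ∈ Q)
    (hN : ¬ normalizer (Q : Set G) ≤ centralizer (Q : Set G)) : All p G := by
  refine all_of_sum (ι := Unit) hp (fun _ => Q) (fun _ => hQ) (fun y hy => ⟨(), hcov y hy⟩) ?_
  have h1 : (centralizer (Q : Set G)).relIndex (normalizer (Q : Set G)) ≠ 1 := by
    rwa [Ne, relIndex_eq_one]
  have h2 : (centralizer (Q : Set G)).relIndex (normalizer (Q : Set G)) ≠ 0 := by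
    intro h0
    have h4 := index_mul_card_mul_relIndex Q
    rw [h0, mul_zero] at h4
    exact Nat.card_pos.ne h4
  have h3 : (2 : ℚ) ≤ (centralizer (Q : Set G)).relIndex (normalizer (Q : Set G)) := by
    exact_mod_cast (by omega : 2 ≤ (centralizer (Q : Set G)).relIndex (normalizer (Q : Set G)))
  rw [Finset.univ_unique, Finset.sum_singleton]
  exact one_div_le_one_div_of_le (by norm_num) h3

/-! ### Cyclic Sylow subgroups -/

/-- in a cyclic group two subgroups of the same order coincide -/
theorem eq_of_cyclic {A : Type*} [Group A] [Finite A] [IsCyclic A] (H K : Subgroup A)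
    (h : Nat.card H = Nat.card K) : H = K := by
  classical
  have : Fintype A := Fintype.ofFinite A
  have key : ∀ L : Subgroup A, Nat.card L = Nat.card K →
      (L : Set A).toFinset = Finset.univ.filter fun a => a ^ Nat.card K = 1 := by
    intro L hL
    apply Finset.eq_of_subset_of_card_le
    · intro a ha
      rw [Set.mem_toFinset] at ha
      rw [Finset.mem_filter]
      refine ⟨Finset.mem_univ _, ?_⟩
      have h1 := pow_card_eq_one' (x := (⟨a, ha⟩ : L))
      rw [hL] at h1
      simpa using congrArg Subtype.val h1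
    · refine (IsCyclic.card_pow_eq_one_le (α := A) Nat.card_pos).trans ?_
      rw [Set.toFinset_card]
      rw [← hL, Nat.card_eq_fintype_card]
      rfl
  have h1 := (key H h).trans (key K rfl).symm
  apply SetLike.coe_injective
  simpa using h1

/-- `N(P) ≤ C(P)` if `N(Q) ≤ C(Q)` for the subgroup `Q` of order `p` of the cyclic Sylow subgroup `P` -/
theorem normalizer_le_of_root [Finite G] [Fact p.Prime] (P : Sylow p G) (hP : IsCyclic P)
    (Q : Subgroup G) (hQP : Q ≤ P) (hQ : Nat.card Q = p)
    (hN : normalizer (Q : Set G) ≤ centralizer (Q : Set G)) :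
    normalizer (P : Set G) ≤ centralizer (P : Set G) := by
  classical
  have hp : p.Prime := Fact.out
  intro g hg
  have hconj : ∀ x ∈ P, g * x * g⁻¹ ∈ P := fun x hx => (mem_normalizer_iff.1 hg x).1 hx
  obtain ⟨a, ha⟩ := hP.exists_generator
  obtain ⟨n, hn⟩ := P.2.exists_card_eq
  -- the conjugate of `a`
  obtain ⟨k, hk⟩ : ∃ k : ℤ, g * (a : G) * g⁻¹ = (a : G) ^ k := by
    obtain ⟨k, hk⟩ := mem_zpowers_iff.1 (ha ⟨_, hconj _ a.2⟩)
    exact ⟨k, by simpa using (congrArg Subtype.val hk).symm⟩
  -- hence of all elements of `P`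
  have hall : ∀ x ∈ P, g * x * g⁻¹ = x ^ k := by
    intro x hx
    obtain ⟨j, hj⟩ := mem_zpowers_iff.1 (ha ⟨x, hx⟩)
    have hj' : x = (a : G) ^ j := by simpa using (congrArg Subtype.val hj).symm
    rw [hj', ← conj_zpow, hk, ← zpow_mul, ← zpow_mul, mul_comm]
  -- `g` centralizes `Q`
  have hgQ : g ∈ centralizer (Q : Set G) := by
    apply hN
    have h1 : ∀ x ∈ Q, g * x * g⁻¹ ∈ Q := fun x hx => by
      rw [hall x (hQP hx)]; exact zpow_mem hx k
    rw [mem_normalizer_iff]
    have hmap : Q.map (MulAut.conj g).toMonoidHom = Q := by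
      apply Subgroup.eq_of_le_of_card_ge
      · rintro _ ⟨x, hx, rfl⟩
        exact h1 x hx
      · rw [Nat.card_congr (Q.equivMapOfInjective _ (MulAut.conj g).injective).symm.toEquiv]
    intro x
    refine ⟨h1 x, fun hx => ?_⟩
    rw [← hmap] at hx
    obtain ⟨y, hy, hyx⟩ := hx
    have : y = x := by
      have h2 : g * y * g⁻¹ = g * x * g⁻¹ := hyx
      simpa using h2
    rwa [← this]
  -- so `k ≡ 1` modulo `p`
  have hk1 : (p : ℤ) ∣ k - 1 := by
    obtain ⟨y, hy⟩ : ∃ y : Q, orderOf y = p := by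
      apply exists_prime_orderOf_dvd_card' p
      rw [hQ]
    have hyG : orderOf (y : G) = p := by rw [Subgroup.orderOf_coe, hy]
    have h1 := hall y (hQP y.2)
    have h2 : g * (y : G) * g⁻¹ = y := by
      have := hgQ y y.2
      rw [← this]; group
    rw [h2] at h1
    rw [← hyG, orderOf_dvd_iff_zpow_eq_one, zpow_sub, zpow_one, ← h1, mul_inv_cancel]
  -- powers of `g`
  have hpow : ∀ m : ℕ, ∀ x ∈ P, g ^ m * x * (g ^ m)⁻¹ = x ^ (k ^ m) := by
    intro m
    induction m with
    | zero => intro x _; simp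
    | succ m ih =>
      intro x hx
      have h1 : g ^ (m + 1) * x * (g ^ (m + 1))⁻¹ = g * (g ^ m * x * (g ^ m)⁻¹) * g⁻¹ := by
        rw [pow_succ']; group
      rw [h1, ih x hx, hall _ (zpow_mem hx _), ← zpow_mul, pow_succ]
  have hgp : g ^ p ^ n ∈ centralizer (P : Set G) := by
    rw [mem_centralizer_iff]
    intro x hx
    have h1 := hpow (p ^ n) x hx
    have h2 : ((p : ℤ) ^ n) ∣ k ^ p ^ n - 1 := by
      have h3 := dvd_sub_pow_of_dvd_sub (R := ℤ) (p := p) (a := k) (b := 1) hk1 n
      rw [one_pow] at h3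
      exact (pow_dvd_pow _ (Nat.le_succ n)).trans h3
    have h4 : x ^ (k ^ p ^ n - 1) = 1 := by
      rw [← orderOf_dvd_iff_zpow_eq_one]
      have h5 : orderOf x ∣ p ^ n := by
        rw [← hn]
        have := orderOf_dvd_natCard (⟨x, hx⟩ : (P : Subgroup G))
        rwa [← Subgroup.orderOf_coe] at this
      exact (Int.natCast_dvd_natCast.2 h5).trans (by exact_mod_cast h2)
    have h5 : x ^ k ^ p ^ n = x := by
      have := congrArg (fun y => y * x) h4
      simpa [zpow_sub] using this
    rw [h5] at h1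
    calc x * g ^ p ^ n = (g ^ p ^ n * x * (g ^ p ^ n)⁻¹) * g ^ p ^ n := by rw [h1]
      _ = _ := by group
  -- the index of `C(P)` in `N(P)` is prime to `p`
  have hcom : IsMulCommutative (P : Subgroup G) := hP.isMulCommutative
  have hPC : (P : Subgroup G) ≤ centralizer (P : Set G) := le_centralizer (P : Subgroup G)
  set t := (centralizer (P : Set G)).relIndex (normalizer (P : Set G)) with ht
  have ht1 : t ∣ (P : Subgroup G).index :=
    (relIndex_dvd_of_le_left _ hPC).trans (relIndex_dvd_index_of_le P.le_normalizer)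
  have htp : Nat.Coprime (p ^ n) t := by
    apply Nat.Coprime.pow_left
    rw [Nat.Prime.coprime_iff_not_dvd hp]
    exact fun h => P.not_dvd_index (h.trans ht1)
  have hgt : g ^ t ∈ centralizer (P : Set G) :=
    pow_index_mem ((centralizer (P : Set G)).subgroupOf (normalizer (P : Set G))) ⟨g, hg⟩
  have hb := Nat.isCoprime_iff_coprime.2 htp
  obtain ⟨u, v, huv⟩ := hb
  have hfin : g = (g ^ p ^ n) ^ u * (g ^ t) ^ v := by
    rw [← zpow_natCast, ← zpow_natCast, ← zpow_mul, ← zpow_mul, ← zpow_add]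
    have : ((p ^ n : ℕ) : ℤ) * u + (t : ℤ) * v = 1 := by
      rw [← huv]; ring
    rw [this, zpow_one]
  rw [hfin]
  exact mul_mem (zpow_mem hgp _) (zpow_mem hgt _)

/-- Burnside: in a nonabelian simple group with cyclic Sylow `p`-subgroup, `N(Q) ≠ C(Q)` -/
theorem not_normalizer_le [Finite G] [IsSimpleGroup G] (hG : ¬ IsMulCommutative G) [Fact p.Prime]
    (P : Sylow p G) (hP : IsCyclic P) (Q : Subgroup G) (hQP : Q ≤ P) (hQ : Nat.card Q = p) :
    ¬ normalizer (Q : Set G) ≤ centralizer (Q : Set G) := by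
  intro h
  have hp : p.Prime := Fact.out
  have h1 := normalizer_le_of_root P hP Q hQP hQ h
  have h2 := MonoidHom.ker_transferSylow_isComplement' P h1
  rcases (MonoidHom.normal_ker (MonoidHom.transferSylow P h1)).eq_bot_or_eq_top with h3 | h3
  · rw [h3, isComplement'_bot_left] at h2
    apply hG
    have h4 : IsCyclic (⊤ : Subgroup G) := h2 ▸ hP
    have h5 : IsCyclic G := (Subgroup.topEquiv (G := G)).isCyclic.1 h4
    exact h5.isMulCommutative
  · rw [h3, isComplement'_top_left] at h2
    have h4 : Nat.card Q = 1 := by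
      have : Q = ⊥ := by rw [eq_bot_iff, ← h2]; exact hQP
      rw [this, card_bot]
    rw [hQ] at h4
    exact hp.one_lt.ne' h4

/-- **Cyclic Sylow subgroup.** -/
theorem all_of_cyclic [Finite G] [IsSimpleGroup G] (hG : ¬ IsMulCommutative G) [Fact p.Prime]
    (P : Sylow p G) (hP : IsCyclic P) : All p G := by
  classical
  have hp : p.Prime := Fact.out
  by_cases hd : p ∣ Nat.card G
  · obtain ⟨z, hz⟩ : ∃ z : P, orderOf z = p := by
      apply exists_prime_orderOf_dvd_card' p
      exact P.dvd_card_of_dvd_card hd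
    have hzG : orderOf (z : G) = p := by rw [Subgroup.orderOf_coe, hz]
    have hQ : Nat.card (zpowers (z : G)) = p := by rw [Nat.card_zpowers, hzG]
    have hQP : zpowers (z : G) ≤ P := by rw [zpowers_le]; exact z.2
    refine all_of_one hp (zpowers (z : G)) hQ ?_ (not_normalizer_le hG P hP _ hQP hQ)
    intro y hy
    obtain ⟨R, hR⟩ := (IsPGroup.of_card (p := p) (n := 1)
      (by rw [pow_one, Nat.card_zpowers, hy]) : IsPGroup p (zpowers y)).exists_le_sylow
    obtain ⟨x, hx⟩ := MulAction.exists_smul_eq G R P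
    refine ⟨x, ?_⟩
    have hy1 : x * y * x⁻¹ ∈ (P : Subgroup G) := by
      rw [← hx]
      exact (Sylow.smul_def (g := x) (P := R)) ▸ Subgroup.smul_mem_pointwise_smul y (MulAut.conj x) (R : Subgroup G)
        (hR (mem_zpowers y))
    have hyo : orderOf (x * y * x⁻¹) = p := by
      rw [← hy]
      exact orderOf_injective (MulAut.conj x).toMonoidHom (MulAut.conj x).injective y
    have h1 : zpowers (⟨x * y * x⁻¹, hy1⟩ : P) = zpowers z := by
      apply eq_of_cyclic
      rw [Nat.card_zpowers, Nat.card_zpowers, hz, ← Subgroup.orderOf_coe, hyo]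
    have h2 : (⟨x * y * x⁻¹, hy1⟩ : P) ∈ zpowers z := by rw [← h1]; exact mem_zpowers _
    obtain ⟨j, hj⟩ := mem_zpowers_iff.1 h2
    exact mem_zpowers_iff.2 ⟨j, by simpa using congrArg Subtype.val hj⟩
  · intro g
    apply Pr.of_coprime
    exact Nat.Coprime.of_dvd_left (orderOf_dvd_natCard g)
      ((Nat.Prime.coprime_iff_not_dvd hp).2 hd).symm

/-- `p ^ 2` does not divide the order -/
theorem all_of_not_sq_dvd [Finite G] [IsSimpleGroup G] (hG : ¬ IsMulCommutative G) (hp : p.Prime)
    (h : ¬ p ^ 2 ∣ Nat.card G) : All p G := by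
  have : Fact p.Prime := ⟨hp⟩
  let P : Sylow p G := default
  refine all_of_cyclic hG P ?_
  obtain ⟨n, hn⟩ := P.2.exists_card_eq
  have hn1 : n ≤ 1 := by
    by_contra h2
    apply h
    have h3 : p ^ n ∣ Nat.card G := hn ▸ card_subgroup_dvd_card (P : Subgroup G)
    exact (pow_dvd_pow p (by omega)).trans h3
  rcases Nat.lt_or_ge 0 n with h0 | h0
  · have : n = 1 := by omega
    rw [this, pow_one] at hn
    exact isCyclic_of_prime_card hn
  · have : n = 0 := by omega
    rw [this, pow_zero] at hn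
    have := (Nat.card_eq_one_iff_unique.1 hn).1
    exact isCyclic_of_subsingleton

end Cfsg.Agent.H643.PwCnt
end
end
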